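import Groth.Agent.Lib.CSAlg.Split
import Mathlib.Algebra.BrauerGroup.Defs
import Mathlib.RingTheory.MvPolynomial.Homogeneous
import Mathlib.LinearAlgebra.Matrix.Determinant.Basic

/-!
# Index of a division algebra, splitting fields and similar algebras, reduced norm
-/

namespace Groth.Agent.CSAlg

open scoped TensorProduct
open Matrix
open Curves (Splits)

universe u v w

set_option linter.style.haveILetI false

variable {k : Type u} [Field k]

/-- A splitting field of `D` acts on a finite `Dᵐᵒᵖ`-module: the degree relation and a similar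
algebra containing the field. -/
theorem exists_matrix_algHom_of_splits {D : Type v} [DivisionRing D] [Algebra k D]
    [Algebra.IsCentral k D] [FiniteDimensional k D] {d : ℕ} (hd : Module.finrank k D = d ^ 2)
    (L : Type w) [Field L] [Algebra k L] [FiniteDimensional k L] (hs : Splits k D L) :
    ∃ t : ℕ, t * d = Module.finrank k L ∧ Nonempty (L →ₐ[k] Matrix (Fin t) (Fin t) D) := by
  classical
  obtain ⟨n, hn, ⟨f⟩⟩ := hs
  have hnd : n = d := by
    have h := f.toLinearEquiv.finrank_eq
    rw [Module.finrank_baseChange, hd, Module.finrank_matrix] at h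
    simp at h
    nlinarith [h]
  subst hnd
  let M : D →ₐ[k] Matrix (Fin n) (Fin n) L :=
    (f.toAlgHom.restrictScalars k).comp Algebra.TensorProduct.includeRight
  let g : Dᵐᵒᵖ →ₐ[k] Module.End k (Fin n → L) :=
    { toFun := fun x =>
        { toFun := fun v => v ᵥ* M x.unop
          map_add' := fun v w => Matrix.add_vecMul _ v w
          map_smul' := fun c v => Matrix.smul_vecMul c v _ }
      map_one' := by ext v; simp
      map_mul' := fun x y => by
        apply LinearMap.ext; intro v
        show v ᵥ* M (x * y).unop = (v ᵥ* M y.unop) ᵥ* M x.unop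
        rw [MulOpposite.unop_mul, map_mul, Matrix.vecMul_vecMul]
      map_zero' := by ext v; simp
      map_add' := fun x y => by
        apply LinearMap.ext; intro v
        show v ᵥ* M (x + y).unop = v ᵥ* M x.unop + v ᵥ* M y.unop
        rw [MulOpposite.unop_add, map_add, Matrix.vecMul_add]
      commutes' := fun c => by
        apply LinearMap.ext; intro v
        show v ᵥ* M (algebraMap k Dᵐᵒᵖ c).unop = _
        rw [MulOpposite.algebraMap_apply, MulOpposite.unop_op, AlgHom.commutes,
          Module.algebraMap_end_apply, Algebra.algebraMap_eq_smul_one, Matrix.vecMul_smul,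
          Matrix.vecMul_one] }
  letI : Module Dᵐᵒᵖ (Fin n → L) := Module.compHom _ g.toRingHom
  have hsmul : ∀ (x : Dᵐᵒᵖ) (v : Fin n → L), x • v = v ᵥ* M x.unop := fun _ _ => rfl
  haveI : IsScalarTower k Dᵐᵒᵖ (Fin n → L) :=
    ⟨fun c x v => by simp only [hsmul, MulOpposite.unop_smul, map_smul, Matrix.vecMul_smul]⟩
  haveI : SMulCommClass L Dᵐᵒᵖ (Fin n → L) :=
    ⟨fun l x v => by simp only [hsmul, Matrix.smul_vecMul]⟩
  haveI : SMulCommClass Dᵐᵒᵖ k (Fin n → L) :=
    ⟨fun x c v => by simp only [hsmul, Matrix.smul_vecMul]⟩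
  haveI : Module.Finite Dᵐᵒᵖ (Fin n → L) :=
    Module.Finite.of_restrictScalars_finite k Dᵐᵒᵖ _
  obtain ⟨t, ⟨b⟩⟩ : ∃ t, Nonempty (Module.Basis (Fin t) Dᵐᵒᵖ (Fin n → L)) :=
    ⟨_, ⟨Module.finBasis Dᵐᵒᵖ (Fin n → L)⟩⟩
  refine ⟨t, ?_, ⟨?_⟩⟩
  · have h1 := (b.equivFun.restrictScalars k).finrank_eq
    rw [Module.finrank_pi_fintype, Module.finrank_pi_fintype,
      ← (MulOpposite.opLinearEquiv k : D ≃ₗ[k] Dᵐᵒᵖ).finrank_eq, hd] at h1
    simp at h1
    apply Nat.eq_of_mul_eq_mul_left (Nat.pos_of_ne_zero hn)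
    rw [h1]; ring
  · exact ((b.equivFun.conjAlgEquiv k).trans ((endVecAlgEquivMatrixEnd (Fin t) k Dᵐᵒᵖ Dᵐᵒᵖ).trans
      (AlgEquiv.mapMatrix ((AlgEquiv.moduleEndSelf k).symm.trans (AlgEquiv.opOp k D).symm)))
      ).toAlgHom.comp (Algebra.lsmul k Dᵐᵒᵖ (Fin n → L) : L →ₐ[k] _)

/-- A field splits `A` iff it embeds with square-root dimension in an algebra similar to `A`. -/
theorem splits_iff_exists_similar (A : CSA.{u, u} k) (L : Type u) [Field L] [Algebra k L]
    [FiniteDimensional k L] :
    Splits k A L ↔ ∃ (B : CSA.{u, u} k) (_ : L →ₐ[k] B), IsBrauerEquivalent A B ∧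
      Module.finrank k B = Module.finrank k L ^ 2 := by
  constructor
  · intro h
    obtain ⟨r, hr, D, _, _, _, _, ⟨e⟩⟩ :=
      exists_algEquiv_matrix_central_divisionRing (k := k) A
    have hsD : Splits k D L := splits_of_splits_matrix hr.out (splits_of_algEquiv e h)
    obtain ⟨d, -, ⟨fd⟩⟩ := splits_separableClosure (k := k) D
    have hd : Module.finrank k D = d ^ 2 := by
      have := fd.toLinearEquiv.finrank_eq
      rw [Module.finrank_baseChange, Module.finrank_matrix] at this
      simp at this; rw [this, sq]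
    obtain ⟨t, ht, ⟨j⟩⟩ := exists_matrix_algHom_of_splits hd L hsD
    have ht0 : t ≠ 0 := by
      rintro rfl
      have : 0 < Module.finrank k L := Module.finrank_pos
      omega
    haveI : NeZero t := ⟨ht0⟩
    refine ⟨{ toAlgCat := AlgCat.of k (Matrix (Fin t) (Fin t) D) }, j, ⟨t, r, ht0, hr.out, ⟨?_⟩⟩, ?_⟩
    · exact e.mapMatrix.trans ((Matrix.compAlgEquiv (Fin t) (Fin r) D k).trans
        ((Matrix.reindexAlgEquiv k D (Equiv.prodComm _ _)).trans
          (Matrix.compAlgEquiv (Fin r) (Fin t) D k).symm))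
    · show Module.finrank k (Matrix (Fin t) (Fin t) D) = _
      rw [Module.finrank_matrix, hd, ← ht]
      simp; ring
  · rintro ⟨B, j, ⟨n, m, hn, hm, ⟨e⟩⟩, hB⟩
    exact splits_of_splits_matrix hn
      (splits_of_algEquiv e.symm (splits_matrix hm (splits_of_finrank_eq_sq j hB)))

/-- The reduced norm form: a form of degree `d` in `d²` variables with only the trivial zero. -/
theorem exists_norm_form (D : Type v) [DivisionRing D] [Algebra k D] [Algebra.IsCentral k D]
    [FiniteDimensional k D] :
    ∃ (d : ℕ) (P : MvPolynomial (Fin (d ^ 2)) k), 0 < d ∧ Module.finrank k D = d ^ 2 ∧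
      P.IsHomogeneous d ∧ ∀ a, MvPolynomial.eval a P = 0 → a = 0 := by
  classical
  obtain ⟨E, hfin, hgal, d, hd0, ⟨f⟩⟩ := exists_galois_splits (k := k) D
  haveI : NeZero d := ⟨hd0⟩
  have hd : Module.finrank k D = d ^ 2 := by
    have := f.toLinearEquiv.finrank_eq
    rw [Module.finrank_baseChange, Module.finrank_matrix] at this
    simp at this; rw [this, sq]
  let b := Module.finBasisOfFinrankEq k D hd
  let φ : D →ₐ[k] Matrix (Fin d) (Fin d) E :=
    (f.toAlgHom.restrictScalars k).comp Algebra.TensorProduct.includeRight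
  let G : Matrix (Fin d) (Fin d) (MvPolynomial (Fin (d ^ 2)) E) :=
    ∑ i, (MvPolynomial.X i : MvPolynomial (Fin (d ^ 2)) E) • (φ (b i)).map MvPolynomial.C
  have hG : ∀ p q, G p q = ∑ i, MvPolynomial.X i * MvPolynomial.C (φ (b i) p q) := fun p q => by
    simp [G, Matrix.sum_apply]
  have hhom : G.det.IsHomogeneous d := by
    rw [Matrix.det_apply]
    refine MvPolynomial.IsHomogeneous.sum _ _ _ fun s _ => ?_
    have hp : (∏ i, G (s i) i).IsHomogeneous d := by
      have h := MvPolynomial.IsHomogeneous.prod Finset.univ (fun i => G (s i) i) (fun _ => 1)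
        (fun i _ => by
          rw [hG]
          refine MvPolynomial.IsHomogeneous.sum _ _ _ fun j _ => ?_
          exact (MvPolynomial.isHomogeneous_X E j).mul (MvPolynomial.isHomogeneous_C _ _))
      simpa using h
    exact (MvPolynomial.homogeneousSubmodule (Fin (d ^ 2)) E d).toAddSubgroup.zsmul_mem hp _
  have hfix : ∀ σ : E ≃ₐ[k] E, MvPolynomial.map σ.toRingHom G.det = G.det := by
    intro σ
    haveI := isSimpleRing_baseChange (k := k) E D
    let φσ : D →ₐ[k] Matrix (Fin d) (Fin d) E := σ.toAlgHom.mapMatrix.comp φ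
    obtain ⟨x, hx⟩ := skolem_noether (A := Matrix (Fin d) (Fin d) E)
      (Algebra.TensorProduct.lift (Algebra.ofId E (Matrix (Fin d) (Fin d) E)) φσ
        (fun e y => Algebra.commutes e (φσ y))) f.toAlgHom
    let c : Matrix (Fin d) (Fin d) E →+* Matrix (Fin d) (Fin d) (MvPolynomial (Fin (d ^ 2)) E) :=
      MvPolynomial.C.mapMatrix
    let u : (Matrix (Fin d) (Fin d) (MvPolynomial (Fin (d ^ 2)) E))ˣ := Units.map c.toMonoidHom x
    have hx' : ∀ y, φσ y = x.val * φ y * (x⁻¹).val := fun y => by
      have h := hx ((1 : E) ⊗ₜ[k] y)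
      erw [Algebra.TensorProduct.lift_tmul] at h
      rw [map_one, one_mul] at h
      exact h
    have key : (MvPolynomial.map σ.toRingHom).mapMatrix G = u.val * G * (u⁻¹).val := by
      simp only [G, map_sum, Finset.mul_sum, Finset.sum_mul]
      refine Finset.sum_congr rfl fun i _ => ?_
      have h := congrArg c (hx' (b i))
      simp only [map_mul] at h
      rw [Matrix.mul_smul, Matrix.smul_mul]
      refine Eq.trans ?_ (congrArg ((MvPolynomial.X i : MvPolynomial (Fin (d ^ 2)) E) • ·) h)
      ext p q : 1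
      simp [c, φσ, φ]
    rw [RingHom.map_det, key, Matrix.det_units_conj]
  have hcoef : ∀ m, G.det.coeff m ∈ (algebraMap k E).range := fun m => by
    refine (IsGalois.mem_range_algebraMap_iff_fixed _).2 fun σ => ?_
    have h := congrArg (MvPolynomial.coeff m) (hfix σ)
    rw [MvPolynomial.coeff_map] at h
    exact h
  obtain ⟨P, hP⟩ : G.det ∈ (MvPolynomial.map (algebraMap k E)).range := by
    rw [RingHom.mem_range, ← Set.mem_range, MvPolynomial.mem_range_map_iff_coeffs_subset]
    intro e he
    rw [Finset.mem_coe, MvPolynomial.mem_coeffs_iff] at he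
    obtain ⟨m, -, rfl⟩ := he
    exact hcoef m
  refine ⟨d, P, Nat.pos_of_ne_zero hd0, hd, ?_, fun a ha => ?_⟩
  · intro m hm
    apply hhom (d := m)
    rw [← hP, MvPolynomial.coeff_map]
    exact (map_ne_zero_iff _ (algebraMap k E).injective).2 hm
  · by_contra ha0
    let y : D := ∑ i, a i • b i
    have hy : y ≠ 0 := fun h => ha0 (funext fun i => Fintype.linearIndependent_iff.1
      b.linearIndependent a h i)
    have hu : IsUnit (φ y).det := (Matrix.isUnit_iff_isUnit_det _).1 (hy.isUnit.map φ)
    have heval : MvPolynomial.eval (algebraMap k E ∘ a) G.det = (φ y).det := by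
      rw [RingHom.map_det]
      congr 1
      ext p q : 1
      rw [RingHom.mapMatrix_apply, Matrix.map_apply, hG, map_sum]
      simp only [y, map_sum, map_smul, Matrix.sum_apply, Matrix.smul_apply]
      refine Finset.sum_congr rfl fun i _ => ?_
      rw [map_mul, MvPolynomial.eval_X, MvPolynomial.eval_C, Function.comp_apply, Algebra.smul_def]
    rw [← hP, MvPolynomial.eval_map, ← MvPolynomial.eval₂_comp, ha, map_zero] at heval
    exact hu.ne_zero heval.symm

theorem finrank_eq_one_of_isCr_one (hk : Curves.IsCr k 1) (D : Type v) [DivisionRing D]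
    [Algebra k D] [Algebra.IsCentral k D] [FiniteDimensional k D] : Module.finrank k D = 1 := by
  obtain ⟨d, P, hd0, hd, hP, hz⟩ := exists_norm_form (k := k) D
  by_contra hne
  have h2 : d ^ 1 < d ^ 2 := Nat.pow_lt_pow_right (by
    rcases Nat.lt_or_ge 1 d with h | h
    · exact h
    · obtain rfl : d = 1 := by omega
      simp [hd] at hne) (by norm_num)
  obtain ⟨a, ha0, ha⟩ := hk (d ^ 2) d P hP hd0 h2
  exact ha0 (hz a ha)

end Groth.Agent.CSAlg
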