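import Groth.Agent.Lib.CSAlg.Wedderburn
import Groth.Prelude.Def_Curves
import Mathlib.RingTheory.MatrixAlgebra
import Mathlib.Data.Matrix.Composition
import Mathlib.LinearAlgebra.FiniteDimensional.Basic
import Mathlib.FieldTheory.JacobsonNoether
import Mathlib.FieldTheory.SeparableDegree
import Mathlib.FieldTheory.SeparableClosure
import Mathlib.FieldTheory.IsSepClosed
import Mathlib.FieldTheory.Galois.Basic
import Mathlib.RingTheory.TensorProduct.Free
import Mathlib.RingTheory.Congruence.Basic

/-!
# Splitting fields of central simple algebras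
-/

namespace Groth.Agent.CSAlg

open scoped TensorProduct
open Curves (Splits)

universe u v w z

set_option linter.style.haveILetI false

variable {k : Type u} [Field k]

section formal

variable {L : Type w} [Field L] [Algebra k L]

theorem splits_of_algEquiv {A : Type v} [Ring A] [Algebra k A] {A' : Type z} [Ring A'] [Algebra k A']
    (e : A ≃ₐ[k] A') (h : Splits k A L) : Splits k A' L := by
  obtain ⟨n, hn, ⟨f⟩⟩ := h
  exact ⟨n, hn, ⟨(Algebra.TensorProduct.congr (AlgEquiv.refl : L ≃ₐ[L] L) e.symm).trans f⟩⟩

/-- `1 × 1` matrices are scalars. -/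
noncomputable def matrixOneEquiv (L : Type w) [CommRing L] :
    L ≃ₐ[L] Matrix (Fin 1) (Fin 1) L :=
  AlgEquiv.ofBijective (Algebra.ofId L _)
    ⟨fun a b h => by
      have := congrFun (congrFun h 0) 0
      simpa [Algebra.ofId_apply, Matrix.algebraMap_matrix_apply] using this,
    fun M => ⟨M 0 0, by
      ext i j; fin_cases i; fin_cases j
      simp [Algebra.ofId_apply, Matrix.algebraMap_matrix_apply]⟩⟩

/-- Centrality is invariant under isomorphism, across universes. -/
theorem isCentral_of_algEquiv {A : Type v} [Ring A] [Algebra k A] [h : Algebra.IsCentral k A]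
    {B : Type z} [Ring B] [Algebra k B] (e : A ≃ₐ[k] B) : Algebra.IsCentral k B where
  out x hx := by
    obtain ⟨r, hr⟩ := (Algebra.IsCentral.mem_center_iff k).1
      (show e.symm x ∈ Subalgebra.center k A from Subalgebra.mem_center_iff.2 fun a => by
        apply e.injective
        simp [Subalgebra.mem_center_iff.1 hx (e a)])
    exact ⟨r, by simpa [Algebra.ofId_apply] using (congrArg e hr).symm⟩

/-- `L' ⊗_L (L ⊗ A) ≅ L' ⊗ A` for a noncommutative `A`. -/
noncomputable def cancelBaseChangeEquiv (L : Type w) [CommRing L] [Algebra k L]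
    (L' : Type z) [CommRing L'] [Algebra k L'] [Algebra L L'] [IsScalarTower k L L']
    (A : Type v) [Ring A] [Algebra k A] : L' ⊗[L] (L ⊗[k] A) ≃ₐ[L'] L' ⊗[k] A :=
  AlgEquiv.symm <| AlgEquiv.ofLinearEquiv
    (TensorProduct.AlgebraTensorModule.cancelBaseChange k L L' L' A).symm
    (by simp [Algebra.TensorProduct.one_def]) <|
      LinearMap.map_mul_of_map_mul_tmul (fun _ _ _ _ ↦ by simp)

/-- Base change commutes with matrices. -/
noncomputable def baseChangeMatrix (L : Type w) [CommRing L] [Algebra k L]
    (D : Type v) [Ring D] [Algebra k D] (n : ℕ) :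
    L ⊗[k] Matrix (Fin n) (Fin n) D ≃ₐ[L] Matrix (Fin n) (Fin n) (L ⊗[k] D) :=
  ((Algebra.TensorProduct.congr (matrixOneEquiv L)
      (AlgEquiv.refl : Matrix (Fin n) (Fin n) D ≃ₐ[k] _)).trans
    (Matrix.kroneckerTMulAlgEquiv (Fin 1) (Fin n) k L L D)).trans
    (Matrix.reindexAlgEquiv L _ (Equiv.uniqueProd (Fin n) (Fin 1)))

theorem splits_matrix {D : Type v} [Ring D] [Algebra k D] {n : ℕ} (hn : n ≠ 0)
    (h : Splits k D L) : Splits k (Matrix (Fin n) (Fin n) D) L := by
  obtain ⟨m, hm, ⟨f⟩⟩ := h
  exact ⟨n * m, Nat.mul_ne_zero hn hm, ⟨((baseChangeMatrix L D n).trans f.mapMatrix).trans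
    ((Matrix.compAlgEquiv (Fin n) (Fin m) L L).trans
      (Matrix.reindexAlgEquiv L L finProdFinEquiv))⟩⟩

theorem splits_tower {A : Type v} [Ring A] [Algebra k A] (L' : Type z) [Field L'] [Algebra k L']
    [Algebra L L'] [IsScalarTower k L L'] (h : Splits k A L) : Splits k A L' := by
  obtain ⟨n, hn, ⟨f⟩⟩ := h
  exact ⟨n, hn, ⟨(cancelBaseChangeEquiv (k := k) L L' A).symm.trans
    ((Algebra.TensorProduct.congr AlgEquiv.refl f).trans
      ((baseChangeMatrix L' L n).trans
        (Algebra.TensorProduct.rid L L' L').mapMatrix))⟩⟩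

theorem splits_of_algHom {A : Type v} [Ring A] [Algebra k A] {L' : Type z} [Field L'] [Algebra k L']
    (φ : L →ₐ[k] L') (h : Splits k A L) : Splits k A L' :=
  letI := φ.toRingHom.toAlgebra
  haveI : IsScalarTower k L L' := IsScalarTower.of_algebraMap_eq fun x => (φ.commutes x).symm
  splits_tower L' h

theorem splits_of_splits_matrix {A : Type v} [Ring A] [Algebra k A] [Algebra.IsCentral k A]
    [IsSimpleRing A] [FiniteDimensional k A] {n : ℕ} (hn : n ≠ 0)
    (h : Splits k (Matrix (Fin n) (Fin n) A) L) : Splits k A L := by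
  obtain ⟨r, hr, ⟨f⟩⟩ := h
  haveI := isSimpleRing_baseChange (k := k) L A
  haveI := isCentral_baseChange (k := k) L A
  obtain ⟨q, hq, E, _, _, _, _, ⟨g⟩⟩ :=
    exists_algEquiv_matrix_central_divisionRing (k := L) (L ⊗[k] A)
  have e : Matrix (Fin (n * q)) (Fin (n * q)) E ≃ₐ[L] Matrix (Fin r) (Fin r) L :=
    (((Matrix.reindexAlgEquiv L E finProdFinEquiv).symm.trans
      (Matrix.compAlgEquiv (Fin n) (Fin q) E L).symm).trans
        (g.symm.mapMatrix.trans (baseChangeMatrix L A n).symm)).trans f
  obtain ⟨e'⟩ := nonempty_algEquiv_of_matrix (Nat.mul_ne_zero hn hq.out) e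
  exact ⟨q, hq.out, ⟨g.trans e'.mapMatrix⟩⟩

theorem isCSA_of_splits {A : Type v} [Ring A] [Algebra k A] (h : Splits k A L) :
    Algebra.IsCentral k A ∧ IsSimpleRing A ∧ FiniteDimensional k A := by
  classical
  obtain ⟨n, hn, ⟨f⟩⟩ := h
  haveI : NeZero n := ⟨hn⟩
  haveI hfin : Module.Finite L (L ⊗[k] A) := Module.Finite.equiv f.symm.toLinearEquiv
  haveI : IsSimpleRing (L ⊗[k] A) := IsSimpleRing.of_ringEquiv f.symm.toRingEquiv inferInstance
  haveI : Algebra.IsCentral L (L ⊗[k] A) := isCentral_of_algEquiv f.symm
  haveI hA : Nontrivial A := by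
    by_contra hA
    rw [not_nontrivial_iff_subsingleton] at hA
    have : Subsingleton (L ⊗[k] A) := inferInstance
    exact not_subsingleton (L ⊗[k] A) this
  refine ⟨⟨fun z hz => ?_⟩, ?_, ?_⟩
  · rw [Subalgebra.mem_center_iff] at hz
    have hc : (1 : L) ⊗ₜ[k] z ∈ Subalgebra.center L (L ⊗[k] A) := by
      rw [Subalgebra.mem_center_iff]
      intro x
      induction x using TensorProduct.induction_on with
      | zero => simp
      | tmul l a => simp [hz a]
      | add x y hx hy => simp [mul_add, add_mul, hx, hy]
    obtain ⟨l, hl⟩ := (Algebra.IsCentral.mem_center_iff L).1 hc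
    obtain ⟨φ, hφ⟩ := LinearMap.exists_leftInverse_of_injective (Algebra.linearMap k L)
      (LinearMap.ker_eq_bot.2 (algebraMap k L).injective)
    have hφ1 : φ 1 = 1 := by simpa using LinearMap.congr_fun hφ 1
    have := congrArg ((TensorProduct.lid k A).toLinearMap ∘ₗ φ.rTensor A) hl
    simp [hφ1, Algebra.TensorProduct.algebraMap_apply] at this
    exact ⟨φ l, by simp [this, Algebra.algebraMap_eq_smul_one]⟩
  · refine .of_eq_bot_or_eq_top fun I => or_iff_not_imp_right.2 fun hI => ?_
    let Q := I.ringCon.Quotient
    haveI : Nontrivial Q := by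
      refine ⟨⟨((1 : A) : Q), ((0 : A) : Q), fun h => hI ?_⟩⟩
      exact (I.one_mem_iff).1 ((TwoSidedIdeal.mem_iff I 1).2 (Quotient.eq'.1 h))
    haveI : Nontrivial (L ⊗[k] Q) :=
      Algebra.TensorProduct.nontrivial_of_algebraMap_injective_of_flat_left k L Q
        (FaithfulSMul.algebraMap_injective k Q)
    let π : A →ₐ[k] Q :=
      { toFun := fun a => (a : Q), map_one' := rfl, map_mul' := fun _ _ => rfl,
        map_zero' := rfl, map_add' := fun _ _ => rfl, commutes' := fun _ => rfl }
    have hinj := RingHom.injective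
      (Algebra.TensorProduct.map (AlgHom.id L L) π).toRingHom
    rw [eq_bot_iff]
    intro a ha
    have hπ : π a = 0 := Quotient.sound' ((TwoSidedIdeal.mem_iff I a).1 ha)
    rw [TwoSidedIdeal.mem_bot]
    apply Algebra.TensorProduct.includeRight_injective (R := k) (A := L) (B := A)
      (algebraMap k L).injective
    rw [map_zero]
    apply hinj
    rw [map_zero]
    simp [Algebra.TensorProduct.includeRight, hπ]
  · haveI : Finite (Module.Free.ChooseBasisIndex k A) :=
      Module.Finite.finite_basis
        (Algebra.TensorProduct.basis L (Module.Free.chooseBasis k A))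
    exact Module.Finite.of_basis (Module.Free.chooseBasis k A)

end formal

section subfield

variable {B : Type v} [Ring B] [Algebra k B] {L : Type w} [Field L] [Algebra k L]

/-- `B` as an `L`-vector space through right multiplication by `j`. -/
@[nolint unusedArguments]
def RightVec (_j : L →ₐ[k] B) : Type v := B

instance (j : L →ₐ[k] B) : AddCommGroup (RightVec j) := inferInstanceAs (AddCommGroup B)

instance (j : L →ₐ[k] B) : Module k (RightVec j) := inferInstanceAs (Module k B)

instance (j : L →ₐ[k] B) [FiniteDimensional k B] : FiniteDimensional k (RightVec j) :=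
  inferInstanceAs (FiniteDimensional k B)

instance (j : L →ₐ[k] B) [Nontrivial B] : Nontrivial (RightVec j) :=
  inferInstanceAs (Nontrivial B)

/-- The identification `B = RightVec j`. -/
def toRightVec (j : L →ₐ[k] B) : B ≃ₗ[k] RightVec j := LinearEquiv.refl k B

instance (j : L →ₐ[k] B) : Module L (RightVec j) where
  smul l x := toRightVec j ((toRightVec j).symm x * j l)
  one_smul x := show toRightVec j (_ * j 1) = x by simp
  mul_smul l m x := show toRightVec j (_ * j (l * m)) =
      toRightVec j ((toRightVec j).symm (toRightVec j (_ * j m)) * j l) by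
    simp [mul_assoc, ← map_mul, mul_comm]
  smul_zero l := show toRightVec j (_ * j l) = 0 by simp
  smul_add l x y := show toRightVec j (_ * j l) = toRightVec j (_ * j l) + toRightVec j (_ * j l) by
    simp [add_mul]
  add_smul l m x := show toRightVec j (_ * j (l + m)) =
      toRightVec j (_ * j l) + toRightVec j (_ * j m) by simp [mul_add]
  zero_smul x := show toRightVec j (_ * j 0) = 0 by simp

theorem rightVec_smul (j : L →ₐ[k] B) (l : L) (x : B) :
    l • toRightVec j x = toRightVec j (x * j l) := rfl

instance (j : L →ₐ[k] B) : IsScalarTower k L (RightVec j) where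
  smul_assoc c l x := by
    obtain ⟨x, rfl⟩ := (toRightVec j).surjective x
    simp [rightVec_smul]

/-- A subfield of square-root dimension splits a central simple algebra. -/
theorem splits_of_finrank_eq_sq [Algebra.IsCentral k B] [IsSimpleRing B] [FiniteDimensional k B]
    (j : L →ₐ[k] B) (h : Module.finrank k B = Module.finrank k L ^ 2) : Splits k B L := by
  classical
  haveI : FiniteDimensional k L := Module.Finite.of_injective j.toLinearMap j.toRingHom.injective
  haveI := isSimpleRing_baseChange (k := k) L B
  haveI : FiniteDimensional L (RightVec j) := Module.Finite.of_restrictScalars_finite k L _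
  let μ : B →ₐ[k] Module.End L (RightVec j) :=
    { toFun := fun b =>
        { toFun := fun x => toRightVec j (b * (toRightVec j).symm x)
          map_add' := fun x y => by simp [mul_add]
          map_smul' := fun l x => by
            obtain ⟨x, rfl⟩ := (toRightVec j).surjective x
            simp [rightVec_smul, mul_assoc] }
      map_one' := by ext x; simp
      map_mul' := fun a b => by ext x; simp [mul_assoc]
      map_zero' := by ext x; simp
      map_add' := fun a b => by ext x; simp [add_mul]
      commutes' := fun c => by ext x; simp [Algebra.algebraMap_eq_smul_one] }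
  let ψ := Algebra.TensorProduct.lift (Algebra.ofId L (Module.End L (RightVec j))) μ
    (fun l b => Algebra.commutes l (μ b))
  haveI : Nontrivial (Module.End L (RightVec j)) := inferInstance
  have hinj : Function.Injective ψ := RingHom.injective ψ.toRingHom
  have hd : 0 < Module.finrank k L := Module.finrank_pos
  have hV : Module.finrank L (RightVec j) = Module.finrank k L := by
    have := Module.finrank_mul_finrank k L (RightVec j)
    rw [← (toRightVec j).finrank_eq, h, sq] at this
    exact Nat.eq_of_mul_eq_mul_left hd this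
  have hsurj : Function.Surjective ψ := by
    refine (LinearMap.injective_iff_surjective_of_finrank_eq_finrank (f := ψ.toLinearMap) ?_).1 hinj
    rw [Module.finrank_baseChange, Module.finrank_linearMap, hV, h, sq]
  let bV := Module.finBasisOfFinrankEq L (RightVec j) hV
  exact ⟨_, hd.ne', ⟨(AlgEquiv.ofBijective ψ ⟨hinj, hsurj⟩).trans (algEquivMatrix bV)⟩⟩

end subfield

section division

variable {D : Type v} [DivisionRing D] [Algebra k D] [FiniteDimensional k D]

theorem exists_fieldStructure (L : Subalgebra k D) (hcomm : ∀ x ∈ L, ∀ y ∈ L, x * y = y * x) :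
    ∃ F : Field L, F.toRing = L.toRing := by
  letI : CommRing L := { L.toRing with mul_comm := fun x y => Subtype.ext (hcomm x x.2 y y.2) }
  exact ⟨fieldOfFiniteDimensional k L, rfl⟩

theorem isSimpleRing_subalgebra (L : Subalgebra k D) : IsSimpleRing L := by
  letI := divisionRingOfFiniteDimensional k L
  infer_instance

omit [FiniteDimensional k D] in
theorem le_centralizer_of_comm (L : Subalgebra k D) (hcomm : ∀ x ∈ L, ∀ y ∈ L, x * y = y * x) :
    L ≤ Subalgebra.centralizer k (L : Set D) := fun x hx =>
  (Subalgebra.mem_centralizer_iff k).2 fun y hy => hcomm y hy x hx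

omit [FiniteDimensional k D] in
/-- A maximal commutative subalgebra is its own centralizer. -/
theorem centralizer_eq_of_maximal (L : Subalgebra k D)
    (hcomm : ∀ x ∈ L, ∀ y ∈ L, x * y = y * x)
    (hmax : ∀ L' : Subalgebra k D, (∀ x ∈ L', ∀ y ∈ L', x * y = y * x) → L ≤ L' → L' = L) :
    Subalgebra.centralizer k (L : Set D) = L := by
  refine le_antisymm (fun c hc => ?_) (le_centralizer_of_comm L hcomm)
  rw [Subalgebra.mem_centralizer_iff] at hc
  have hM : ∀ a ∈ insert c (L : Set D), ∀ b ∈ insert c (L : Set D), a * b = b * a := by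
    rintro a (rfl | ha) b (rfl | hb)
    · rfl
    · exact (hc b hb).symm
    · exact hc a ha
    · exact hcomm a ha b hb
  have := hmax (Algebra.adjoin k (insert c (L : Set D))) (fun x hx y hy => ?_)
    fun x hx => Algebra.subset_adjoin (Set.mem_insert_of_mem c hx)
  · rw [← this]; exact Algebra.subset_adjoin (Set.mem_insert c _)
  · exact congrArg Subtype.val
      (((Algebra.isMulCommutative_adjoin k hM).is_comm.comm ⟨x, hx⟩ ⟨y, hy⟩))

theorem finrank_eq_sq_of_centralizer_eq [Algebra.IsCentral k D] (L : Subalgebra k D)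
    (h : Subalgebra.centralizer k (L : Set D) = L) :
    Module.finrank k D = Module.finrank k L ^ 2 := by
  haveI := isSimpleRing_subalgebra L
  have h1 := finrank_centralizer L
  rw [h] at h1
  rw [h1, sq]

/-- A commutative separable subalgebra that is not its own centralizer is contained in a strictly
larger one. -/
theorem exists_separable_gt [Algebra.IsCentral k D] (L : Subalgebra k D)
    (hcomm : ∀ x ∈ L, ∀ y ∈ L, x * y = y * x) [Algebra.IsSeparable k L]
    (hne : Subalgebra.centralizer k (L : Set D) ≠ L) :
    ∃ L' : Subalgebra k D, L < L' ∧ (∀ x ∈ L', ∀ y ∈ L', x * y = y * x) ∧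
      Algebra.IsSeparable k L' := by
  classical
  haveI := isSimpleRing_subalgebra L
  have hdc := double_centralizer L
  set C := Subalgebra.centralizer k (L : Set D) with hC
  have hLC : L ≤ C := le_centralizer_of_comm L hcomm
  letI : CommRing L := { L.toRing with mul_comm := fun x y => Subtype.ext (hcomm x x.2 y y.2) }
  letI : Field L := fieldOfFiniteDimensional k L
  letI : DivisionRing C := divisionRingOfFiniteDimensional k C
  letI : Algebra L C := (Subalgebra.inclusion hLC).toRingHom.toAlgebra' fun l c =>
    Subtype.ext ((Subalgebra.mem_centralizer_iff k).1 c.2 (l : D) l.2)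
  haveI : IsScalarTower k L C := IsScalarTower.of_algebraMap_eq fun r => rfl
  haveI : FiniteDimensional L C := Module.Finite.of_restrictScalars_finite k L C
  haveI : Algebra.IsCentral L C := ⟨fun z hz => by
    rw [Subalgebra.mem_center_iff] at hz
    have : (z : D) ∈ L := by
      rw [← hdc]
      exact (Subalgebra.mem_centralizer_iff k).2 fun c hc => congrArg Subtype.val (hz ⟨c, hc⟩)
    exact ⟨⟨z, this⟩, Subtype.ext rfl⟩⟩
  have hbt : (⊥ : Subalgebra L C) ≠ ⊤ := by
    intro h
    refine hne (le_antisymm (fun c hc => ?_) hLC)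
    obtain ⟨l, hl⟩ := Algebra.mem_bot.1 (h.symm ▸ Algebra.mem_top : (⟨c, hc⟩ : C) ∈ ⊥)
    have : (l : D) = c := congrArg Subtype.val hl
    exact this ▸ l.2
  obtain ⟨x, hx, hsep⟩ := JacobsonNoether.exists_separable_and_not_isCentral' hbt
  let M := Algebra.adjoin L ({x} : Set C)
  haveI hMc := Algebra.isMulCommutative_adjoin L (s := ({x} : Set C)) (by simp)
  letI : CommRing M := { M.toRing with mul_comm := fun a b => hMc.is_comm.comm a b }
  letI : Field M := fieldOfFiniteDimensional L M
  let x' : M := ⟨x, Algebra.subset_adjoin rfl⟩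
  have hsep' : IsSeparable L x' := by
    unfold IsSeparable at hsep ⊢
    rwa [← minpoly.algHom_eq M.val Subtype.val_injective x']
  haveI : Algebra.IsSeparable L M := by
    have htop : IntermediateField.adjoin L ({x'} : Set M) = ⊤ := by
      refine eq_top_iff.2 fun y _ => ?_
      apply IntermediateField.algebra_adjoin_le_adjoin L ({x'} : Set M)
      obtain ⟨y, hy⟩ := y
      induction hy using Algebra.adjoin_induction with
      | mem z hz => obtain rfl := hz; exact Algebra.subset_adjoin rfl
      | algebraMap r => exact Subalgebra.algebraMap_mem _ r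
      | add a b _ _ ha hb => exact add_mem (ha trivial) (hb trivial)
      | mul a b _ _ ha hb => exact mul_mem (ha trivial) (hb trivial)
    have h2 := (IntermediateField.isSeparable_adjoin_simple_iff_isSeparable L M).2 hsep'
    rw [htop] at h2
    exact Algebra.IsSeparable.of_algHom L _ (IntermediateField.topEquiv.symm.toAlgHom)
  haveI : Algebra.IsSeparable k M := Algebra.IsSeparable.trans k L M
  let j : M →ₐ[k] D := C.val.comp ((M.val).restrictScalars k)
  refine ⟨j.range, ?_, ?_, ?_⟩
  · refine lt_of_le_of_ne (fun l hl => ⟨algebraMap L M ⟨l, hl⟩, rfl⟩) fun h => ?_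
    have : (x : D) ∈ L := h ▸ ⟨x', rfl⟩
    exact hx (Algebra.mem_bot.2 ⟨⟨x, this⟩, Subtype.ext rfl⟩)
  · rintro _ ⟨a, rfl⟩ _ ⟨b, rfl⟩
    show j a * j b = j b * j a
    rw [← map_mul, ← map_mul, mul_comm]
  · exact AlgEquiv.Algebra.isSeparable (AlgEquiv.ofInjective j j.toRingHom.injective)

/-- A central division algebra has a separable maximal commutative subalgebra. -/
theorem exists_separable_centralizer_eq [Algebra.IsCentral k D] :
    ∃ L : Subalgebra k D, (∀ x ∈ L, ∀ y ∈ L, x * y = y * x) ∧
      Algebra.IsSeparable k L ∧ Subalgebra.centralizer k (L : Set D) = L := by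
  classical
  let S := {L : Subalgebra k D | (∀ x ∈ L, ∀ y ∈ L, x * y = y * x) ∧ Algebra.IsSeparable k L}
  let P := fun m => ∃ L ∈ S, Module.finrank k D - Module.finrank k L = m
  have hbot : (⊥ : Subalgebra k D) ∈ S := by
    refine ⟨fun x hx y _ => ?_, ?_⟩
    · obtain ⟨r, rfl⟩ := Algebra.mem_bot.1 hx
      exact Algebra.commutes r y
    · exact AlgEquiv.Algebra.isSeparable (Algebra.botEquiv k D).symm
  have hP : ∃ m, P m := ⟨_, ⊥, hbot, rfl⟩
  obtain ⟨L, hL, hLm⟩ := Nat.find_spec hP
  refine ⟨L, hL.1, hL.2, ?_⟩
  by_contra hne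
  haveI := hL.2
  obtain ⟨L', hlt, hc, hs⟩ := exists_separable_gt L hL.1 hne
  have hlt' := Submodule.finrank_lt_finrank_of_lt (Subalgebra.toSubmodule.lt_iff_lt.2 hlt)
  have hle := L'.toSubmodule.finrank_le
  refine Nat.find_min hP ?_ ⟨L', ⟨hc, hs⟩, rfl⟩
  rw [← hLm]
  simp only [Subalgebra.finrank_toSubmodule] at hlt' hle
  omega

omit [FiniteDimensional k D] in
theorem maximal_of_centralizer_eq (L : Subalgebra k D)
    (h : Subalgebra.centralizer k (L : Set D) = L) (L' : Subalgebra k D)
    (hc : ∀ x ∈ L', ∀ y ∈ L', x * y = y * x) (hle : L ≤ L') : L' = L := by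
  refine le_antisymm (fun x hx => ?_) hle
  rw [← h]
  exact (Subalgebra.mem_centralizer_iff k).2 fun y hy => hc y (hle hy) x hx

end division

/-- Every central simple algebra is split by a finite Galois extension inside a separable closure. -/
theorem exists_galois_splits (A : Type v) [Ring A] [Algebra k A] [Algebra.IsCentral k A]
    [IsSimpleRing A] [FiniteDimensional k A] :
    ∃ E : IntermediateField k (SeparableClosure k),
      FiniteDimensional k E ∧ IsGalois k E ∧ Splits k A E := by
  obtain ⟨n, hn, D, _, _, _, _, ⟨e⟩⟩ := exists_algEquiv_matrix_central_divisionRing (k := k) A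
  obtain ⟨L, hcomm, hsep, hcent⟩ := exists_separable_centralizer_eq (k := k) (D := D)
  letI : CommRing L := { L.toRing with mul_comm := fun x y => Subtype.ext (hcomm x x.2 y y.2) }
  letI : Field L := fieldOfFiniteDimensional k L
  haveI := hsep
  have hs : Splits k D L := splits_of_finrank_eq_sq L.val (finrank_eq_sq_of_centralizer_eq L hcent)
  let i : L →ₐ[k] SeparableClosure k := IsSepClosed.lift
  let E := IntermediateField.normalClosure k L (SeparableClosure k)
  have hi : ∀ x, i x ∈ E := fun x => i.fieldRange_le_normalClosure ⟨x, rfl⟩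
  refine ⟨E, inferInstance, inferInstance, ?_⟩
  exact splits_of_algEquiv e.symm
    (splits_matrix hn.out (splits_of_algHom (i.codRestrict E.toSubalgebra hi) hs))

theorem splits_separableClosure (A : Type v) [Ring A] [Algebra k A] [Algebra.IsCentral k A]
    [IsSimpleRing A] [FiniteDimensional k A] : Splits k A (SeparableClosure k) := by
  obtain ⟨E, -, -, h⟩ := exists_galois_splits (k := k) A
  exact splits_of_algHom (k := k) (A := A) E.val h

end Groth.Agent.CSAlg
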