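import Mathlib.RingTheory.SimpleModule.WedderburnArtin
import Mathlib.RingTheory.SimpleRing.Matrix
import Mathlib.RingTheory.SimpleRing.Congr
import Mathlib.LinearAlgebra.Dimension.Constructions
import Mathlib.LinearAlgebra.FiniteDimensional.Basic

/-!
# Finite modules over finite-dimensional simple algebras
-/

namespace Groth.Agent.CSAlg

universe u v w w'

set_option linter.style.haveILetI false

variable (k : Type u) [Field k] (R : Type v) [Ring R] [Algebra k R] [IsSimpleRing R]
  [FiniteDimensional k R]

include k in
/-- Every finite-dimensional module over a simple algebra is a power of a fixed simple ideal. -/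
theorem exists_isSimpleModule_forall_linearEquiv_fun :
    ∃ S : Ideal R, IsSimpleModule R S ∧
      ∀ (M : Type w) [AddCommGroup M] [Module R M] [Module.Finite R M],
        ∃ n : ℕ, Nonempty (M ≃ₗ[R] Fin n → S) := by
  haveI : IsArtinianRing R := IsArtinianRing.of_finite k R
  obtain ⟨S, hS⟩ := IsAtomic.exists_atom (Submodule R R)
  rw [← isSimpleModule_iff_isAtom] at hS
  refine ⟨S, hS, fun M _ _ _ => IsIsotypicOfType.linearEquiv_fun ?_⟩
  intro m hm
  obtain ⟨I, ⟨e⟩⟩ := IsSemisimpleRing.exists_linearEquiv_ideal_of_isSimpleModule R m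
  haveI := IsSimpleModule.congr e.symm
  obtain ⟨e'⟩ := IsSimpleRing.isIsotypic R R S I
  exact ⟨e.trans e'⟩

variable {R}

/-- Two modules over a simple algebra of the same finite dimension are isomorphic. -/
theorem nonempty_linearEquiv_of_finrank_eq (M : Type w) [AddCommGroup M] [Module R M] [Module k M]
    [IsScalarTower k R M] [FiniteDimensional k M]
    (N : Type w) [AddCommGroup N] [Module R N] [Module k N]
    [IsScalarTower k R N] [FiniteDimensional k N]
    (h : Module.finrank k M = Module.finrank k N) : Nonempty (M ≃ₗ[R] N) := by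
  obtain ⟨S, hS, hall⟩ := exists_isSimpleModule_forall_linearEquiv_fun.{u, v, w} k R
  haveI : Module.Finite R M := Module.Finite.of_restrictScalars_finite k R M
  haveI : Module.Finite R N := Module.Finite.of_restrictScalars_finite k R N
  obtain ⟨n, ⟨e⟩⟩ := hall M
  obtain ⟨m, ⟨e'⟩⟩ := hall N
  haveI := IsSimpleModule.nontrivial R S
  have hnm : n = m := by
    have h1 := (e.restrictScalars k).finrank_eq
    have h2 := (e'.restrictScalars k).finrank_eq
    rw [Module.finrank_pi_fintype] at h1 h2
    simp at h1 h2
    have : 0 < Module.finrank k S := Module.finrank_pos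
    exact Nat.eq_of_mul_eq_mul_right this (by omega)
  subst hnm
  exact ⟨e.trans e'.symm⟩

/-- The endomorphism ring of a nonzero finite module over a simple algebra is simple. -/
theorem isSimpleRing_end (M : Type w) [AddCommGroup M] [Module R M] [Module k M]
    [IsScalarTower k R M] [FiniteDimensional k M] [Nontrivial M] :
    IsSimpleRing (Module.End R M) := by
  classical
  obtain ⟨S, hS, hall⟩ := exists_isSimpleModule_forall_linearEquiv_fun.{u, v, w} k R
  haveI : Module.Finite R M := Module.Finite.of_restrictScalars_finite k R M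
  obtain ⟨n, ⟨e⟩⟩ := hall M
  haveI : Nonempty (Fin n) := by
    rcases n with _ | n
    · exact (not_subsingleton M e.toEquiv.subsingleton).elim
    · exact ⟨0⟩
  exact IsSimpleRing.of_ringEquiv
    (e.conjRingEquiv.trans (endVecRingEquivMatrixEnd (Fin n) R S)).symm inferInstance

/-- `dim R · dim End_R(M) = (dim M)²` for a module over a simple algebra. -/
theorem finrank_mul_finrank_end (M : Type w) [AddCommGroup M] [Module R M] [Module k M]
    [IsScalarTower k R M] [SMulCommClass R k M] [FiniteDimensional k M] :
    Module.finrank k R * Module.finrank k (Module.End R M) = Module.finrank k M ^ 2 := by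
  classical
  obtain ⟨S, hS, hall⟩ := exists_isSimpleModule_forall_linearEquiv_fun.{u, v, w} k R
  haveI : Module.Finite R M := Module.Finite.of_restrictScalars_finite k R M
  obtain ⟨n, ⟨e⟩⟩ := hall M
  obtain ⟨S', hS', hall'⟩ := exists_isSimpleModule_forall_linearEquiv_fun.{u, v, v} k R
  obtain ⟨m, ⟨er⟩⟩ := hall' R
  haveI : IsArtinianRing R := IsArtinianRing.of_finite k R
  obtain ⟨s⟩ := IsSimpleRing.isIsotypic R R S S'
  let er' : R ≃ₗ[R] (Fin m → S) := er.trans (LinearEquiv.piCongrRight fun _ => s)
  let φ : Module.End R M ≃ₐ[k] Matrix (Fin n) (Fin n) (Module.End R S) :=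
    (e.conjAlgEquiv k).trans (endVecAlgEquivMatrixEnd (Fin n) k R S)
  let ψ : Rᵐᵒᵖ ≃ₐ[k] Matrix (Fin m) (Fin m) (Module.End R S) :=
    (AlgEquiv.moduleEndSelf k).trans ((er'.conjAlgEquiv k).trans
      (endVecAlgEquivMatrixEnd (Fin m) k R S))
  have h1 : Module.finrank k (Module.End R M) = n * n * Module.finrank k (Module.End R S) := by
    rw [φ.toLinearEquiv.finrank_eq, Module.finrank_matrix]; simp
  have h2 : Module.finrank k R = m * m * Module.finrank k (Module.End R S) := by
    rw [LinearEquiv.finrank_eq (MulOpposite.opLinearEquiv k : R ≃ₗ[k] Rᵐᵒᵖ),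
      ψ.toLinearEquiv.finrank_eq, Module.finrank_matrix]; simp
  have h3 : Module.finrank k M = n * Module.finrank k S := by
    rw [(e.restrictScalars k).finrank_eq, Module.finrank_pi_fintype]; simp
  have h4 : Module.finrank k R = m * Module.finrank k S := by
    rw [(er'.restrictScalars k).finrank_eq, Module.finrank_pi_fintype]; simp
  have hm : m ≠ 0 := by
    rintro rfl
    exact not_subsingleton R er'.toEquiv.subsingleton
  have h5 : Module.finrank k S = m * Module.finrank k (Module.End R S) := by
    apply Nat.eq_of_mul_eq_mul_left (Nat.pos_of_ne_zero hm)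
    rw [← h4, h2]; ring
  rw [h1, h2, h3, h5]; ring

end Groth.Agent.CSAlg
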