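import Groth.Agent.Lib.CSAlg.Tensor
import Groth.Agent.Lib.CSAlg.Module
import Mathlib.Algebra.Azumaya.Defs
import Mathlib.Algebra.Algebra.Subalgebra.Centralizer
import Mathlib.RingTheory.Artinian.Algebra
import Mathlib.RingTheory.Artinian.Module
import Mathlib.LinearAlgebra.FiniteDimensional.Lemmas

/-!
# Skolem–Noether and the centralizer theorem
-/

namespace Groth.Agent.CSAlg

open scoped TensorProduct
open MulOpposite

universe u v w

set_option linter.style.haveILetI false

variable {k : Type u} [Field k] {A : Type v} [Ring A] [Algebra k A]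
  {B : Type w} [Ring B] [Algebra k B]

/-- The action of `B ⊗ Aᵒᵖ` on `A` given by `f : B → A` on the left. -/
noncomputable def bimodAct (f : B →ₐ[k] A) : B ⊗[k] Aᵐᵒᵖ →ₐ[k] Module.End k A :=
  (AlgHom.mulLeftRight k A).comp (Algebra.TensorProduct.map f (AlgHom.id k Aᵐᵒᵖ))

theorem bimodAct_tmul (f : B →ₐ[k] A) (b : B) (a : Aᵐᵒᵖ) (x : A) :
    bimodAct f (b ⊗ₜ a) x = f b * x * a.unop := by
  simp [bimodAct]

/-- `A` as a module over `B ⊗ Aᵒᵖ` through `f`. -/
@[nolint unusedArguments]
def Bimod (_f : B →ₐ[k] A) : Type v := A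

instance (f : B →ₐ[k] A) : AddCommGroup (Bimod f) := inferInstanceAs (AddCommGroup A)

instance (f : B →ₐ[k] A) : Module k (Bimod f) := inferInstanceAs (Module k A)

instance (f : B →ₐ[k] A) [FiniteDimensional k A] : FiniteDimensional k (Bimod f) :=
  inferInstanceAs (FiniteDimensional k A)

instance (f : B →ₐ[k] A) [Nontrivial A] : Nontrivial (Bimod f) :=
  inferInstanceAs (Nontrivial A)

/-- The identification `A = Bimod f`. -/
def toBimod (f : B →ₐ[k] A) : A ≃ₗ[k] Bimod f := LinearEquiv.refl k A

noncomputable instance (f : B →ₐ[k] A) : Module (B ⊗[k] Aᵐᵒᵖ) (Bimod f) where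
  smul r x := toBimod f (bimodAct f r ((toBimod f).symm x))
  one_smul x := show toBimod f (bimodAct f 1 _) = x by simp
  mul_smul r s x := show toBimod f (bimodAct f (r * s) _) =
      toBimod f (bimodAct f r ((toBimod f).symm (toBimod f (bimodAct f s _)))) by simp
  smul_zero r := show toBimod f (bimodAct f r _) = 0 by simp
  smul_add r x y := show toBimod f (bimodAct f r _) =
      toBimod f (bimodAct f r _) + toBimod f (bimodAct f r _) by simp
  add_smul r s x := show toBimod f (bimodAct f (r + s) _) =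
      toBimod f (bimodAct f r _) + toBimod f (bimodAct f s _) by simp
  zero_smul x := show toBimod f (bimodAct f 0 _) = 0 by simp

theorem bimod_smul_def (f : B →ₐ[k] A) (r : B ⊗[k] Aᵐᵒᵖ) (x : A) :
    r • toBimod f x = toBimod f (bimodAct f r x) := rfl

theorem bimod_tmul_smul (f : B →ₐ[k] A) (b : B) (a : Aᵐᵒᵖ) (x : A) :
    (b ⊗ₜ[k] a) • toBimod f x = toBimod f (f b * x * a.unop) := by
  rw [bimod_smul_def, bimodAct_tmul]

instance (f : B →ₐ[k] A) : IsScalarTower k (B ⊗[k] Aᵐᵒᵖ) (Bimod f) where
  smul_assoc c r x := by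
    obtain ⟨x, rfl⟩ := (toBimod f).surjective x
    simp [bimod_smul_def]

instance (f : B →ₐ[k] A) : SMulCommClass (B ⊗[k] Aᵐᵒᵖ) k (Bimod f) where
  smul_comm r c x := by
    obtain ⟨x, rfl⟩ := (toBimod f).surjective x
    rw [← map_smul, bimod_smul_def, map_smul, map_smul, bimod_smul_def]

section central

variable [Algebra.IsCentral k A] [IsSimpleRing A] [FiniteDimensional k A]

/-- **Skolem–Noether**. -/
theorem skolem_noether [IsSimpleRing B] (f g : B →ₐ[k] A) :
    ∃ x : Aˣ, ∀ b : B, f b = (x : A) * g b * (x⁻¹ : Aˣ) := by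
  haveI : FiniteDimensional k B :=
    Module.Finite.of_injective f.toLinearMap (RingHom.injective f.toRingHom)
  haveI := isSimpleRing_tensor' (k := k) B Aᵐᵒᵖ
  obtain ⟨φ⟩ := nonempty_linearEquiv_of_finrank_eq k (R := B ⊗[k] Aᵐᵒᵖ) (Bimod g) (Bimod f)
    ((toBimod g).symm.trans (toBimod f)).finrank_eq
  let ψ : A → A := fun y => (toBimod f).symm (φ (toBimod g y))
  have hψ : ∀ (b : B) (a y : A), ψ (g b * y * a) = f b * ψ y * a := fun b a y => by
    have h := φ.map_smul (b ⊗ₜ[k] op a) (toBimod g y)
    obtain ⟨z, hz⟩ := (toBimod f).surjective (φ (toBimod g y))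
    rw [bimod_tmul_smul, ← hz, bimod_tmul_smul, unop_op] at h
    simp only [ψ, h, ← hz, LinearEquiv.symm_apply_apply]
  have hmul : ∀ a : A, ψ a = ψ 1 * a := fun a => by simpa using hψ 1 a 1
  have hu : IsUnit (ψ 1) := by
    obtain ⟨y, hy⟩ : ∃ y : A, ψ y = 1 := ⟨(toBimod g).symm (φ.symm (toBimod f 1)), by simp [ψ]⟩
    haveI : IsArtinianRing A := IsArtinianRing.of_finite k A
    refine IsUnit.of_mul_eq_one y ?_
    rw [← hmul, hy]
  refine ⟨hu.unit, fun b => ?_⟩
  have : f b * ψ 1 = ψ 1 * g b := by
    rw [← hmul (g b)]; simpa using (hψ b 1 1).symm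
  rw [Units.eq_mul_inv_iff_mul_eq]
  simpa using this

variable (B' : Subalgebra k A)

omit [Algebra.IsCentral k A] [IsSimpleRing A] [FiniteDimensional k A] in
/-- The centralizer is the endomorphism algebra of `A` as a `B ⊗ Aᵒᵖ`-module. -/
theorem nonempty_centralizer_algEquiv :
    Nonempty (Subalgebra.centralizer k (B' : Set A) ≃ₐ[k]
      Module.End (B' ⊗[k] Aᵐᵒᵖ) (Bimod B'.val)) := by
  let t := toBimod B'.val
  let C := Subalgebra.centralizer k (B' : Set A)
  have hlin : ∀ c : C, ∀ (r : B' ⊗[k] Aᵐᵒᵖ) (y : A),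
      (c : A) * bimodAct B'.val r y = bimodAct B'.val r ((c : A) * y) := by
    intro c r y
    induction r using TensorProduct.induction_on with
    | zero => simp
    | tmul b a =>
      simp only [bimodAct_tmul, Subalgebra.coe_val, ← mul_assoc]
      rw [Subalgebra.mem_centralizer_iff k |>.1 c.2 b b.2]
    | add r s hr hs => simp [hr, hs, mul_add]
  let F : C → Module.End (B' ⊗[k] Aᵐᵒᵖ) (Bimod B'.val) := fun c =>
    { toFun := fun x => t ((c : A) * t.symm x)
      map_add' := fun x y => by simp [mul_add]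
      map_smul' := fun r x => by
        obtain ⟨x, rfl⟩ := t.surjective x
        simp [t, bimod_smul_def, hlin c r x] }
  have hF : ∀ c y, F c (t y) = t ((c : A) * y) := fun c y => by simp [F]
  let G : C →ₐ[k] Module.End (B' ⊗[k] Aᵐᵒᵖ) (Bimod B'.val) :=
    { toFun := F
      map_one' := by ext x; obtain ⟨y, rfl⟩ := t.surjective x; simp [hF]
      map_mul' := fun c d => by
        ext x; obtain ⟨y, rfl⟩ := t.surjective x; simp [hF, mul_assoc]
      map_zero' := by ext x; obtain ⟨y, rfl⟩ := t.surjective x; simp [hF]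
      map_add' := fun c d => by
        ext x; obtain ⟨y, rfl⟩ := t.surjective x; simp [hF, add_mul]
      commutes' := fun r => by
        ext x; obtain ⟨y, rfl⟩ := t.surjective x
        simp [hF, Algebra.algebraMap_eq_smul_one] }
  refine ⟨AlgEquiv.ofBijective G ⟨fun c d h => ?_, fun φ => ?_⟩⟩
  · have h' := LinearMap.congr_fun h (t 1)
    simp [G, hF] at h'
    exact h'
  · obtain ⟨c, hc⟩ := t.surjective (φ (t 1))
    have h1 : ∀ (b : B') (a : A), φ (t ((b : A) * a)) = t ((b : A) * c * a) := fun b a => by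
      have h := φ.map_smul (b ⊗ₜ[k] op a) (t 1)
      rw [← hc] at h
      simpa [t, bimod_tmul_smul] using h
    have hmem : c ∈ C := (Subalgebra.mem_centralizer_iff k).2 fun b hb => by
      have e1 := h1 ⟨b, hb⟩ 1
      have e2 := h1 1 b
      simp at e1 e2
      exact t.injective (e1.symm.trans e2)
    refine ⟨⟨c, hmem⟩, LinearMap.ext fun x => ?_⟩
    obtain ⟨y, rfl⟩ := t.surjective x
    have e2 := h1 1 y
    simp at e2
    simp [G, hF, e2]

variable [IsSimpleRing B']

theorem isSimpleRing_centralizer :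
    IsSimpleRing (Subalgebra.centralizer k (B' : Set A)) := by
  haveI := isSimpleRing_tensor' (k := k) B' Aᵐᵒᵖ
  obtain ⟨e⟩ := nonempty_centralizer_algEquiv B'
  exact IsSimpleRing.of_ringEquiv e.symm.toRingEquiv
    (isSimpleRing_end k (R := B' ⊗[k] Aᵐᵒᵖ) (Bimod B'.val))

theorem finrank_centralizer :
    Module.finrank k A =
      Module.finrank k B' * Module.finrank k (Subalgebra.centralizer k (B' : Set A)) := by
  haveI := isSimpleRing_tensor' (k := k) B' Aᵐᵒᵖ
  obtain ⟨e⟩ := nonempty_centralizer_algEquiv B'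
  have h := finrank_mul_finrank_end k (R := B' ⊗[k] Aᵐᵒᵖ) (Bimod B'.val)
  rw [Module.finrank_tensorProduct, ← e.toLinearEquiv.finrank_eq,
    ← (toBimod B'.val).finrank_eq, ← (MulOpposite.opLinearEquiv k : A ≃ₗ[k] Aᵐᵒᵖ).finrank_eq] at h
  have hA : 0 < Module.finrank k A := Module.finrank_pos
  apply Nat.eq_of_mul_eq_mul_right hA
  linarith [h]

theorem double_centralizer :
    Subalgebra.centralizer k (Subalgebra.centralizer k (B' : Set A) : Set A) = B' := by
  symm
  haveI := isSimpleRing_centralizer B'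
  refine Subalgebra.eq_of_le_of_finrank_eq (fun b hb => ?_) ?_
  · rw [Subalgebra.mem_centralizer_iff]
    exact fun c hc => ((Subalgebra.mem_centralizer_iff k).1 hc b hb).symm
  · have h1 := finrank_centralizer B'
    have h2 := finrank_centralizer (Subalgebra.centralizer k (B' : Set A))
    have hC : 0 < Module.finrank k (Subalgebra.centralizer k (B' : Set A)) := Module.finrank_pos
    apply Nat.eq_of_mul_eq_mul_right hC
    rw [← h1, h2, mul_comm]

/-- Multiplication `B' ⊗ C_A(B') → A` is bijective for central simple `B'`. -/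
theorem bijective_lift_centralizer [Algebra.IsCentral k B'] :
    Function.Bijective (Algebra.TensorProduct.lift B'.val
      (Subalgebra.centralizer k (B' : Set A)).val
      fun x y => (Subalgebra.mem_centralizer_iff k).1 y.2 x x.2) := by
  haveI := isSimpleRing_centralizer B'
  haveI := isSimpleRing_tensor (k := k) B' (Subalgebra.centralizer k (B' : Set A))
  set φ := Algebra.TensorProduct.lift B'.val
      (Subalgebra.centralizer k (B' : Set A)).val
      fun x y => (Subalgebra.mem_centralizer_iff k).1 y.2 x x.2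
  have hinj : Function.Injective φ := RingHom.injective φ.toRingHom
  refine ⟨hinj, ?_⟩
  refine (LinearMap.injective_iff_surjective_of_finrank_eq_finrank (f := φ.toLinearMap) ?_).1 hinj
  rw [Module.finrank_tensorProduct, ← finrank_centralizer B']

end central

end Groth.Agent.CSAlg
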