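import Mathlib.Algebra.Central.Basic
import Mathlib.RingTheory.SimpleRing.Basic
import Mathlib.RingTheory.TensorProduct.Free
import Mathlib.RingTheory.TensorProduct.Maps
import Mathlib.RingTheory.TensorProduct.Basic
import Mathlib.RingTheory.SimpleRing.Congr
import Mathlib.RingTheory.Flat.Basic
import Mathlib.RingTheory.TwoSidedIdeal.Operations
import Mathlib.LinearAlgebra.Basis.VectorSpace

/-!
# Tensor products with central simple algebras
-/

namespace Groth.Agent.CSAlg

open scoped TensorProduct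

universe u v w

set_option linter.style.haveILetI false

variable {k : Type u} [Field k]

section

variable (C : Type v) [Ring C] [Algebra k C] (A : Type w) [Ring A] [Algebra k A]

theorem repr_mul_left {ι : Type*} (b : Module.Basis ι k A) (c : C) (x : C ⊗[k] A) (i : ι) :
    (Algebra.TensorProduct.basis C b).repr ((c ⊗ₜ[k] (1 : A)) * x) i =
      c * (Algebra.TensorProduct.basis C b).repr x i := by
  have : (c ⊗ₜ[k] (1 : A)) * x = c • x := by
    induction x using TensorProduct.induction_on with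
    | zero => simp
    | tmul a m => simp [TensorProduct.smul_tmul']
    | add y z hy hz => rw [mul_add, hy, hz, smul_add]
  rw [this, map_smul]; rfl

theorem repr_mul_right {ι : Type*} (b : Module.Basis ι k A) (c : C) (x : C ⊗[k] A) (i : ι) :
    (Algebra.TensorProduct.basis C b).repr (x * (c ⊗ₜ[k] (1 : A))) i =
      (Algebra.TensorProduct.basis C b).repr x i * c := by
  induction x using TensorProduct.induction_on with
  | zero => simp
  | tmul a m =>
    simp only [Algebra.TensorProduct.tmul_mul_tmul, mul_one,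
      Algebra.TensorProduct.basis_repr_tmul, Finsupp.smul_apply, Finsupp.mapRange_apply,
      smul_eq_mul]
    rw [mul_assoc, mul_assoc, (Algebra.commutes ((b.repr m) i) c).symm]
  | add y z hy hz => simp [add_mul, hy, hz]

variable [Algebra.IsCentral k C]

/-- An element of `C ⊗ A` commuting with `C ⊗ 1` lies in `1 ⊗ A`, for `C` central. -/
theorem exists_eq_one_tmul_of_commute (x : C ⊗[k] A)
    (hx : ∀ c : C, (c ⊗ₜ[k] (1 : A)) * x = x * (c ⊗ₜ[k] (1 : A))) :
    ∃ a : A, x = (1 : C) ⊗ₜ[k] a := by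
  classical
  let b := Module.Basis.ofVectorSpace k A
  let B := Algebra.TensorProduct.basis C b
  have hz : ∀ i, ∃ r : k, B.repr x i = algebraMap k C r := by
    intro i
    refine Algebra.IsCentral.mem_center_iff k |>.1 ?_
    rw [Subalgebra.mem_center_iff]
    intro c
    rw [← repr_mul_left C A b, ← repr_mul_right C A b, hx c]
  choose r hr using hz
  refine ⟨∑ i ∈ (B.repr x).support, r i • b i, ?_⟩
  conv_lhs => rw [← B.linearCombination_repr x, Finsupp.linearCombination_apply, Finsupp.sum]
  rw [TensorProduct.tmul_sum]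
  refine Finset.sum_congr rfl fun i _ => ?_
  rw [show B i = (1 : C) ⊗ₜ[k] b i from Algebra.TensorProduct.basis_apply b i, hr i,
    TensorProduct.smul_tmul', TensorProduct.tmul_smul, TensorProduct.smul_tmul', smul_eq_mul,
    mul_one, Algebra.algebraMap_eq_smul_one]

variable [IsSimpleRing C]

/-- A nonzero element of an ideal yields an element `1 ⊗ a` in it, with `a` in the same span. -/
theorem exists_one_tmul_mem_span {ι : Type*} (b : Module.Basis ι k A)
    (I : TwoSidedIdeal (C ⊗[k] A)) (z : C ⊗[k] A) (hz : z ∈ I) (hz0 : z ≠ 0) :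
    ∃ a ∈ Submodule.span k (b '' ((Algebra.TensorProduct.basis C b).repr z).support),
      a ≠ 0 ∧ (1 : C) ⊗ₜ[k] a ∈ I := by
  classical
  let B := Algebra.TensorProduct.basis C b
  have hex : ∃ n, ∃ x ∈ I, x ≠ 0 ∧ (B.repr x).support ⊆ (B.repr z).support ∧
      (B.repr x).support.card = n := ⟨_, z, hz, hz0, subset_rfl, rfl⟩
  obtain ⟨x, hxI, hx0, hxz, hxn⟩ := Nat.find_spec hex
  have hne : (B.repr x).support.Nonempty := by
    rw [Finsupp.support_nonempty_iff]; simpa using hx0
  obtain ⟨i, hi⟩ := hne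
  -- the coefficients at `i` of elements of `I` supported inside the support of `x`
  let J : TwoSidedIdeal C := TwoSidedIdeal.mk'
    {c | ∃ y ∈ I, (∀ j, B.repr x j = 0 → B.repr y j = 0) ∧ B.repr y i = c}
    ⟨0, I.zero_mem, by simp, by simp⟩
    (by
      rintro _ _ ⟨y, hy, h1, rfl⟩ ⟨z, hz, h2, rfl⟩
      exact ⟨y + z, I.add_mem hy hz, fun j hj => by simp [h1 j hj, h2 j hj], by simp⟩)
    (by
      rintro _ ⟨y, hy, h1, rfl⟩
      exact ⟨-y, I.neg_mem hy, fun j hj => by simp [h1 j hj], by simp⟩)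
    (by
      rintro c _ ⟨y, hy, h1, rfl⟩
      exact ⟨(c ⊗ₜ[k] (1 : A)) * y, I.mul_mem_left _ _ hy,
        fun j hj => by rw [repr_mul_left, h1 j hj, mul_zero], repr_mul_left C A b c y i⟩)
    (by
      rintro _ c ⟨y, hy, h1, rfl⟩
      exact ⟨y * (c ⊗ₜ[k] (1 : A)), I.mul_mem_right _ _ hy,
        fun j hj => by rw [repr_mul_right, h1 j hj, zero_mul], repr_mul_right C A b c y i⟩)
  have hJ : (1 : C) ∈ J := by
    refine IsSimpleRing.one_mem_of_ne_zero_mem J (Finsupp.mem_support_iff.1 hi) ?_
    rw [TwoSidedIdeal.mem_mk']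
    exact ⟨x, hxI, fun j hj => hj, rfl⟩
  rw [TwoSidedIdeal.mem_mk'] at hJ
  obtain ⟨y, hyI, hys, hyi⟩ := hJ
  have hy0 : y ≠ 0 := by
    rintro rfl; simp at hyi
  have hcomm : ∀ c : C, (c ⊗ₜ[k] (1 : A)) * y = y * (c ⊗ₜ[k] (1 : A)) := by
    intro c
    by_contra hne
    have hz : (c ⊗ₜ[k] (1 : A)) * y - y * (c ⊗ₜ[k] (1 : A)) ∈ I :=
      I.sub_mem (I.mul_mem_left _ _ hyI) (I.mul_mem_right _ _ hyI)
    have hlt : (B.repr ((c ⊗ₜ[k] (1 : A)) * y - y * (c ⊗ₜ[k] (1 : A)))).support.card <
        (B.repr x).support.card := by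
      apply Finset.card_lt_card
      rw [Finset.ssubset_iff_of_subset]
      · refine ⟨i, hi, ?_⟩
        rw [Finsupp.notMem_support_iff, map_sub, Finsupp.sub_apply, repr_mul_left, repr_mul_right,
          hyi]
        simp
      · intro j hj
        rw [Finsupp.mem_support_iff] at hj ⊢
        contrapose! hj
        rw [map_sub, Finsupp.sub_apply, repr_mul_left, repr_mul_right, hys j hj]
        simp
    rw [hxn] at hlt
    refine Nat.find_min hex hlt ⟨_, hz, sub_ne_zero.2 hne, ?_, rfl⟩
    intro j hj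
    apply hxz
    rw [Finsupp.mem_support_iff] at hj ⊢
    contrapose! hj
    rw [map_sub, Finsupp.sub_apply, repr_mul_left, repr_mul_right, hys j hj]
    simp
  obtain ⟨a, ha⟩ := exists_eq_one_tmul_of_commute C A y hcomm
  refine ⟨a, ?_, ?_, ha ▸ hyI⟩
  · rw [Module.Basis.mem_span_image]
    intro j hj
    apply hxz
    rw [Finset.mem_coe, Finsupp.mem_support_iff] at hj
    rw [Finsupp.mem_support_iff]
    intro hxj
    have := hys j hxj
    rw [ha, show B.repr ((1 : C) ⊗ₜ[k] a) j = algebraMap k C (b.repr a j) by simp [B]] at this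
    exact hj ((map_eq_zero_iff _ (FaithfulSMul.algebraMap_injective k C)).1 this)
  · rintro rfl
    simp [ha] at hy0

/-- Every nonzero two-sided ideal of `C ⊗ A` contains some `1 ⊗ a`, `a ≠ 0`. -/
theorem exists_one_tmul_mem (I : TwoSidedIdeal (C ⊗[k] A)) (hI : I ≠ ⊥) :
    ∃ a : A, a ≠ 0 ∧ (1 : C) ⊗ₜ[k] a ∈ I := by
  obtain ⟨x, hx, hx0⟩ := SetLike.exists_of_lt (bot_lt_iff_ne_bot.mpr hI)
  obtain ⟨a, -, h⟩ := exists_one_tmul_mem_span C A (Module.Basis.ofVectorSpace k A) I x hx
    (fun h => hx0 (by simp [h]))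
  exact ⟨a, h⟩

/-- A two-sided ideal of `C ⊗ A` is generated by the `1 ⊗ a` it contains. -/
theorem eq_span_one_tmul (I : TwoSidedIdeal (C ⊗[k] A)) :
    I = TwoSidedIdeal.span
      ((fun a : A => (1 : C) ⊗ₜ[k] a) '' {a : A | (1 : C) ⊗ₜ[k] a ∈ I}) := by
  classical
  set J := TwoSidedIdeal.span
    ((fun a : A => (1 : C) ⊗ₜ[k] a) '' {a : A | (1 : C) ⊗ₜ[k] a ∈ I}) with hJ
  refine le_antisymm (fun x hx => ?_) (TwoSidedIdeal.span_le.2 ?_)
  swap
  · rintro _ ⟨a, ha, rfl⟩; exact ha
  let J₀ : Submodule k A :=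
    { carrier := {a | (1 : C) ⊗ₜ[k] a ∈ I}
      add_mem' := fun {a b} ha hb => by
        simp only [Set.mem_ofPred_eq, TensorProduct.tmul_add] at *; exact I.add_mem ha hb
      zero_mem' := by simp [I.zero_mem]
      smul_mem' := fun r a ha => by
        simp only [Set.mem_ofPred_eq] at *
        rw [TensorProduct.tmul_smul, Algebra.smul_def]
        exact I.mul_mem_left _ _ ha }
  obtain ⟨U, hU⟩ := J₀.exists_isCompl
  let b := ((Module.Basis.ofVectorSpace k J₀).prod (Module.Basis.ofVectorSpace k U)).map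
    (J₀.prodEquivOfIsCompl U hU)
  let B := Algebra.TensorProduct.basis C b
  have hB : ∀ i, B i = (1 : C) ⊗ₜ[k] b i := fun i => Algebra.TensorProduct.basis_apply b i
  let p : (Module.Basis.ofVectorSpaceIndex k J₀ ⊕ Module.Basis.ofVectorSpaceIndex k U) → Prop :=
    fun i => i.isLeft = true
  let y := B.repr.symm (Finsupp.filter p (B.repr x))
  let z := B.repr.symm (Finsupp.filter (fun i => ¬ p i) (B.repr x))
  have hxyz : x = y + z := by
    simp only [y, z, ← map_add, Finsupp.filter_add_filter_not, LinearEquiv.symm_apply_apply]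
  have hy : y ∈ J := by
    simp only [y, Module.Basis.repr_symm_apply, Finsupp.linearCombination_apply, Finsupp.sum]
    refine sum_mem fun i hi => ?_
    rw [show Finsupp.filter p (B.repr x) i • B i =
      ((Finsupp.filter p (B.repr x) i) ⊗ₜ[k] (1 : A)) * B i by
        rw [hB, TensorProduct.smul_tmul']; simp]
    refine J.mul_mem_left _ _ (TwoSidedIdeal.subset_span ?_)
    rcases i with i | i
    · refine ⟨b (Sum.inl i), ?_, (hB _).symm⟩
      show b (Sum.inl i) ∈ J₀
      simp [b]
    · simp [p] at hi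
  by_cases hz0 : z = 0
  · rw [hxyz, hz0, add_zero]; exact hy
  exfalso
  have hzI : z ∈ I := by
    have hyI : y ∈ I := (TwoSidedIdeal.span_le.2 (by rintro _ ⟨a, ha, rfl⟩; exact ha)) hy
    rw [show z = x - y by rw [hxyz]; abel]
    exact I.sub_mem hx hyI
  obtain ⟨a, ha, ha0, haI⟩ := exists_one_tmul_mem_span C A b I z hzI hz0
  have haU : a ∈ U := by
    refine Submodule.span_le.2 ?_ ha
    rintro _ ⟨i, hi, rfl⟩
    rcases i with i | i
    · simp [z, B, p] at hi
    · simp [b]
  exact ha0 ((Submodule.disjoint_def.1 hU.disjoint) a haI haU)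


/-- The tensor product of a central simple algebra with a simple algebra is simple. -/
theorem isSimpleRing_tensor [IsSimpleRing A] : IsSimpleRing (C ⊗[k] A) := by
  haveI : Nontrivial (C ⊗[k] A) :=
    Algebra.TensorProduct.nontrivial_of_algebraMap_injective_of_flat_left k C A
      (FaithfulSMul.algebraMap_injective k A)
  refine .of_eq_bot_or_eq_top fun I => or_iff_not_imp_left.2 fun hI => ?_
  obtain ⟨a, ha0, ha⟩ := exists_one_tmul_mem C A I hI
  let f : A →+* C ⊗[k] A :=
    (Algebra.TensorProduct.includeRight : A →ₐ[k] C ⊗[k] A).toRingHom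
  have h1 := IsSimpleRing.one_mem_of_ne_zero_mem (I.comap f) ha0
    ((TwoSidedIdeal.mem_comap f).2 ha)
  rw [TwoSidedIdeal.mem_comap, map_one] at h1
  exact (I.one_mem_iff).1 h1

/-- The center of `C ⊗ A` is the center of `A`, for `C` central simple. -/
theorem center_tensor (x : C ⊗[k] A) (hx : x ∈ Subalgebra.center k (C ⊗[k] A)) :
    ∃ a ∈ Subalgebra.center k A, x = (1 : C) ⊗ₜ[k] a := by
  rw [Subalgebra.mem_center_iff] at hx
  obtain ⟨a, rfl⟩ := exists_eq_one_tmul_of_commute C A x fun c => hx _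
  refine ⟨a, Subalgebra.mem_center_iff.2 fun b => ?_, rfl⟩
  apply Algebra.TensorProduct.includeRight_injective (R := k)
    (FaithfulSMul.algebraMap_injective k C)
  simpa [Algebra.TensorProduct.includeRight] using hx ((1 : C) ⊗ₜ[k] b)

theorem isCentral_tensor [Algebra.IsCentral k A] : Algebra.IsCentral k (C ⊗[k] A) where
  out x hx := by
    obtain ⟨a, ha, rfl⟩ := center_tensor C A x hx
    obtain ⟨r, rfl⟩ := (Algebra.IsCentral.mem_center_iff k).1 ha
    exact ⟨r, by simp [Algebra.algebraMap_eq_smul_one, Algebra.TensorProduct.one_def, TensorProduct.tmul_smul]⟩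

end

/-- Version with the central simple factor on the right. -/
theorem isSimpleRing_tensor' (A : Type v) [Ring A] [Algebra k A] [IsSimpleRing A]
    (C : Type w) [Ring C] [Algebra k C] [Algebra.IsCentral k C] [IsSimpleRing C] :
    IsSimpleRing (A ⊗[k] C) :=
  haveI := isSimpleRing_tensor C A
  IsSimpleRing.of_ringEquiv (Algebra.TensorProduct.comm k C A).toRingEquiv this

section BaseChange

variable (L : Type v) [Field L] [Algebra k L]
variable (A : Type w) [Ring A] [Algebra k A] [Algebra.IsCentral k A] [IsSimpleRing A]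

theorem isSimpleRing_baseChange : IsSimpleRing (L ⊗[k] A) := isSimpleRing_tensor' L A

theorem isCentral_baseChange : Algebra.IsCentral L (L ⊗[k] A) where
  out x hx := by
    rw [Subalgebra.mem_center_iff] at hx
    have hy : (Algebra.TensorProduct.comm k L A x) ∈ Subalgebra.center k (A ⊗[k] L) := by
      rw [Subalgebra.mem_center_iff]
      intro y
      obtain ⟨y, rfl⟩ := (Algebra.TensorProduct.comm k L A).surjective y
      rw [← map_mul, ← map_mul, hx y]
    obtain ⟨l, -, hl⟩ := center_tensor A L _ hy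
    refine ⟨l, ?_⟩
    have := congrArg (Algebra.TensorProduct.comm k L A).symm hl
    rw [AlgEquiv.symm_apply_apply] at this
    rw [this]
    simp

end BaseChange

end Groth.Agent.CSAlg
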