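import Groth.Agent.Lib.CSAlg.Centralizer
import Mathlib.Algebra.Central.Matrix
import Mathlib.RingTheory.SimpleModule.WedderburnArtin
import Mathlib.Data.Matrix.Basis
import Mathlib.LinearAlgebra.Matrix.ToLin
import Mathlib.LinearAlgebra.Matrix.Unique
import Mathlib.LinearAlgebra.Matrix.Reindex

/-!
# Central simple algebras as matrix algebras over division algebras, uniqueness
-/

namespace Groth.Agent.CSAlg

open Matrix

universe u v w

set_option linter.style.haveILetI false

variable {k : Type u} [Field k]

/-- An algebra whose matrix algebra is central is central. -/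
theorem isCentral_of_matrix {D : Type v} [Ring D] [Algebra k D] (n : ℕ) [NeZero n]
    [h : Algebra.IsCentral k (Matrix (Fin n) (Fin n) D)] : Algebra.IsCentral k D where
  out z hz := by
    rw [Subalgebra.mem_center_iff] at hz
    have hmem : Matrix.scalar (Fin n) z ∈ Subalgebra.center k (Matrix (Fin n) (Fin n) D) :=
      Subalgebra.mem_center_iff.2 fun M => (scalar_commute z (fun r => (hz r).symm) M).symm.eq
    obtain ⟨r, hr⟩ := (Algebra.IsCentral.mem_center_iff k).1 hmem
    refine ⟨r, ?_⟩
    have := congrFun (congrFun hr (0 : Fin n)) 0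
    simpa [Matrix.algebraMap_matrix_apply, Algebra.ofId_apply] using this.symm

/-- A finite-dimensional central simple algebra is a matrix algebra over a central division
algebra. -/
theorem exists_algEquiv_matrix_central_divisionRing (A : Type v) [Ring A] [Algebra k A]
    [Algebra.IsCentral k A] [IsSimpleRing A] [FiniteDimensional k A] :
    ∃ (n : ℕ) (_ : NeZero n) (D : Type v) (_ : DivisionRing D) (_ : Algebra k D)
      (_ : FiniteDimensional k D) (_ : Algebra.IsCentral k D),
      Nonempty (A ≃ₐ[k] Matrix (Fin n) (Fin n) D) := by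
  haveI : IsArtinianRing A := IsArtinianRing.of_finite k A
  obtain ⟨n, hn, D, hD, hA, hfin, ⟨e⟩⟩ :=
    IsSimpleRing.exists_algEquiv_matrix_divisionRing_finite k A
  haveI : Algebra.IsCentral k (Matrix (Fin n) (Fin n) D) := Algebra.IsCentral.of_algEquiv k _ _ e
  exact ⟨n, hn, D, hD, hA, hfin, isCentral_of_matrix n, ⟨e⟩⟩

/-- Nilpotent `m × m` matrices over a division ring have nilpotency index at most `m`. -/
theorem matrix_pow_eq_zero_of_isNilpotent {D : Type v} [DivisionRing D] {m : ℕ}
    (M : Matrix (Fin m) (Fin m) D) (hM : IsNilpotent M) : M ^ m = 0 := by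
  let F : Matrix (Fin m) (Fin m) D → Module.End D (Fin m → D) := fun M =>
    { toFun := fun v => v ᵥ* M
      map_add' := fun x y => Matrix.add_vecMul M x y
      map_smul' := fun c x => Matrix.smul_vecMul c x M }
  have hpow : ∀ i : ℕ, ∀ v, (F M ^ i) v = v ᵥ* (M ^ i) := by
    intro i
    induction i with
    | zero => intro v; simp
    | succ i ih =>
      intro v
      rw [pow_succ', Module.End.mul_apply, ih, pow_succ]
      show (v ᵥ* M ^ i) ᵥ* M = _
      rw [Matrix.vecMul_vecMul]
  obtain ⟨r, hr⟩ := hM
  let R := fun i => LinearMap.range (F M ^ i)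
  have hanti : ∀ i, R (i + 1) ≤ R i := by
    intro i
    show LinearMap.range (F M ^ (i + 1)) ≤ _
    rw [pow_succ]
    exact LinearMap.range_comp_le_range _ _
  have hstep : ∀ i, R (i + 1) = R i → R i = ⊥ := by
    intro i hi
    have hst : ∀ j, R (i + j) = R i := by
      intro j
      induction j with
      | zero => rfl
      | succ j ih =>
        show LinearMap.range (F M ^ ((i + j) + 1)) = _
        rw [pow_succ', Module.End.mul_eq_comp, LinearMap.range_comp]
        show Submodule.map (F M) (R (i + j)) = _
        rw [ih]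
        conv_rhs => rw [← hi]
        show Submodule.map (F M) (LinearMap.range (F M ^ i)) = LinearMap.range (F M ^ (i + 1))
        rw [pow_succ', Module.End.mul_eq_comp, LinearMap.range_comp]
    rw [← hst r]
    rw [eq_bot_iff]
    rintro _ ⟨v, rfl⟩
    rw [hpow, pow_add, hr, mul_zero]
    simp
  have hdim : ∀ i, R i = ⊥ ∨ Module.finrank D (R i) + i ≤ m := by
    intro i
    induction i with
    | zero =>
      right
      have := (R 0).finrank_le
      simp at this ⊢
      exact this
    | succ i ih =>
      by_cases hi : R (i + 1) = R i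
      · left; rw [hi]; exact hstep i hi
      rcases ih with h | h
      · left; exact eq_bot_iff.2 (h ▸ hanti i)
      · right
        have := Submodule.finrank_lt_finrank_of_lt (lt_of_le_of_ne (hanti i) hi)
        omega
  have hm : R m = ⊥ := by
    rcases hdim m with h | h
    · exact h
    · exact Submodule.finrank_eq_zero.1 (by omega)
  refine Matrix.ext_of_single_vecMul fun i => ?_
  rw [← hpow, Matrix.vecMul_zero]
  exact (Submodule.mem_bot D).1 (hm ▸ LinearMap.mem_range_self _ _)

/-- The shift matrix has nilpotency index `n`. -/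
theorem exists_isNilpotent_index (D : Type v) [DivisionRing D] (n : ℕ) :
    ∃ M : Matrix (Fin (n + 1)) (Fin (n + 1)) D, IsNilpotent M ∧ M ^ n ≠ 0 := by
  let M : Matrix (Fin (n + 1)) (Fin (n + 1)) D :=
    Matrix.of fun i j => if (i : ℕ) + 1 = j then 1 else 0
  have hpow : ∀ r : ℕ, ∀ i j : Fin (n + 1), (M ^ r) i j = if (i : ℕ) + r = j then 1 else 0 := by
    intro r
    induction r with
    | zero => intro i j; simp [Matrix.one_apply, Fin.ext_iff]
    | succ r ih =>
      intro i j
      rw [pow_succ, Matrix.mul_apply]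
      simp only [ih, M, Matrix.of_apply]
      by_cases h : (i : ℕ) + r < n + 1
      · rw [Finset.sum_eq_single (⟨(i : ℕ) + r, h⟩ : Fin (n + 1))]
        · simp [add_assoc]
        · intro b _ hb
          rw [if_neg]
          · simp
          · intro e; exact hb (Fin.ext e.symm)
        · simp
      · rw [if_neg (by omega)]
        refine Finset.sum_eq_zero fun b _ => ?_
        rw [if_neg (by omega)]; simp
  refine ⟨M, ⟨n + 1, ?_⟩, fun h => ?_⟩
  · ext i j; rw [hpow]; simp; omega
  · have := hpow n 0 ⟨n, by omega⟩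
    rw [h] at this
    simp at this

theorem le_of_matrix_algEquiv {D : Type v} [DivisionRing D] [Algebra k D]
    {D' : Type w} [DivisionRing D'] [Algebra k D'] {n m : ℕ}
    (e : Matrix (Fin n) (Fin n) D ≃ₐ[k] Matrix (Fin m) (Fin m) D') : n ≤ m := by
  rcases n with _ | n
  · simp
  obtain ⟨M, hM, hne⟩ := exists_isNilpotent_index D n
  by_contra h
  apply hne
  have h0 : e M ^ m = 0 := matrix_pow_eq_zero_of_isNilpotent _ (hM.map e)
  have h1 : M ^ m = 0 := e.injective (by rw [map_pow, h0, map_zero])
  exact pow_eq_zero_of_le (by omega) h1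

/-- The matrices with entries in the base field, inside matrices over an algebra. -/
noncomputable def baseMatrixHom (D : Type v) [Ring D] [Algebra k D] (n : ℕ) :
    Matrix (Fin n) (Fin n) k →ₐ[k] Matrix (Fin n) (Fin n) D :=
  (Algebra.ofId k D).mapMatrix

theorem baseMatrixHom_single {D : Type v} [Ring D] [Algebra k D] {n : ℕ} (i j : Fin n) :
    baseMatrixHom (k := k) D n (Matrix.single i j 1) = Matrix.single i j 1 := by
  rw [baseMatrixHom, AlgHom.mapMatrix_apply, Matrix.map_single i j (1 : k) (Algebra.ofId k D)]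
  simp

/-- Matrices commuting with all base matrices are scalar. -/
theorem exists_eq_scalar_of_commute {D : Type v} [Ring D] [Algebra k D] {n : ℕ}
    (x : Matrix (Fin n) (Fin n) D)
    (hx : ∀ M : Matrix (Fin n) (Fin n) k, Commute (baseMatrixHom D n M) x) :
    ∃ d : D, Matrix.scalar (Fin n) d = x := by
  refine Matrix.mem_range_scalar_iff_commute_single'.2 fun i j => ?_
  rw [← baseMatrixHom_single (k := k)]
  exact hx _

theorem commute_scalar_baseMatrixHom {D : Type v} [Ring D] [Algebra k D] {n : ℕ} (d : D)
    (M : Matrix (Fin n) (Fin n) k) :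
    Commute (baseMatrixHom D n M) (Matrix.scalar (Fin n) d) := by
  ext i j
  simp [baseMatrixHom, Matrix.scalar_apply, Algebra.ofId_apply, Algebra.commutes]

/-- Uniqueness of the division algebra in Wedderburn's theorem. -/
theorem nonempty_algEquiv_of_matrix {D : Type v} [DivisionRing D] [Algebra k D]
    [Algebra.IsCentral k D] [FiniteDimensional k D]
    {D' : Type w} [DivisionRing D'] [Algebra k D'] {n m : ℕ} (hn : n ≠ 0)
    (e : Matrix (Fin n) (Fin n) D ≃ₐ[k] Matrix (Fin m) (Fin m) D') : Nonempty (D ≃ₐ[k] D') := by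
  obtain rfl : n = m := le_antisymm (le_of_matrix_algEquiv e) (le_of_matrix_algEquiv e.symm)
  haveI : NeZero n := ⟨hn⟩
  haveI : FiniteDimensional k (Matrix (Fin n) (Fin n) D) := inferInstance
  obtain ⟨x, hx⟩ := skolem_noether (A := Matrix (Fin n) (Fin n) D)
    (e.symm.toAlgHom.comp (baseMatrixHom D' n)) (baseMatrixHom D n)
  -- `Φ` carries base matrices to base matrices
  let Φ : Matrix (Fin n) (Fin n) D → Matrix (Fin n) (Fin n) D' := fun y =>
    e ((x : Matrix (Fin n) (Fin n) D) * y * (x⁻¹ : (Matrix (Fin n) (Fin n) D)ˣ))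
  have hΦmul : ∀ y z, Φ (y * z) = Φ y * Φ z := fun y z => by
    simp only [Φ, ← map_mul]
    congr 1
    simp [mul_assoc]
  have hΦM : ∀ M : Matrix (Fin n) (Fin n) k, Φ (baseMatrixHom D n M) = baseMatrixHom D' n M :=
    fun M => by
    have h := hx M
    simp only [AlgHom.comp_apply] at h
    show e _ = _
    rw [← h]
    simp
  have hcomm : ∀ d : D, ∀ M, Commute (baseMatrixHom D' n M) (Φ (Matrix.scalar (Fin n) d)) :=
    fun d M => by
      rw [← hΦM, commute_iff_eq, ← hΦmul, ← hΦmul, (commute_scalar_baseMatrixHom d M).eq]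
  choose ψ hψ using fun d => exists_eq_scalar_of_commute _ (hcomm d)
  have hinj : Function.Injective (Matrix.scalar (Fin n) : D' → Matrix (Fin n) (Fin n) D') :=
    fun a b h => Matrix.scalar_inj.1 h
  have hΦ1 : Φ 1 = 1 := by
    show e _ = 1
    rw [mul_one, Units.mul_inv, map_one]
  have hΦadd : ∀ y z, Φ (y + z) = Φ y + Φ z := fun y z => by simp [Φ, mul_add, add_mul]
  let ψ' : D →ₐ[k] D' :=
    { toFun := ψ
      map_one' := hinj (by rw [hψ, map_one, map_one, hΦ1])
      map_mul' := fun a b => hinj (by rw [hψ, map_mul, map_mul, hΦmul, hψ, hψ])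
      map_zero' := hinj (by simp [hψ, Φ])
      map_add' := fun a b => hinj (by rw [hψ, map_add, map_add, hΦadd, hψ, hψ])
      commutes' := fun r => hinj (by
        have h1 : Matrix.scalar (Fin n) (algebraMap k D r) =
            algebraMap k (Matrix (Fin n) (Fin n) D) r := by
          ext i j; simp [Matrix.scalar_apply, Matrix.algebraMap_matrix_apply, Matrix.diagonal_apply]
        have h2 : Matrix.scalar (Fin n) (algebraMap k D' r) =
            algebraMap k (Matrix (Fin n) (Fin n) D') r := by
          ext i j; simp [Matrix.scalar_apply, Matrix.algebraMap_matrix_apply, Matrix.diagonal_apply]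
        rw [hψ, h1, h2]
        simp only [Φ]
        rw [← Algebra.commutes, mul_assoc, Units.mul_inv, mul_one, AlgEquiv.commutes]) }
  refine ⟨AlgEquiv.ofBijective ψ' ⟨RingHom.injective ψ'.toRingHom, fun d' => ?_⟩⟩
  -- surjectivity
  let y : Matrix (Fin n) (Fin n) D :=
    (x⁻¹ : (Matrix (Fin n) (Fin n) D)ˣ) * e.symm (Matrix.scalar (Fin n) d') * x
  have hy : Φ y = Matrix.scalar (Fin n) d' := by
    show e _ = _
    simp [y, mul_assoc, -map_mul]
  have hΦinj : Function.Injective Φ := fun a b h => by
    have h' := e.injective h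
    exact (Units.mul_right_inj x).1 ((Units.mul_left_inj x⁻¹).1 h')
  obtain ⟨d, hd⟩ := exists_eq_scalar_of_commute (k := k) y fun M => by
    rw [commute_iff_eq]
    apply hΦinj
    calc Φ (baseMatrixHom D n M * y) = baseMatrixHom D' n M * Matrix.scalar (Fin n) d' := by
          rw [hΦmul (baseMatrixHom D n M) y, hΦM, hy]
      _ = Matrix.scalar (Fin n) d' * baseMatrixHom D' n M :=
          (commute_scalar_baseMatrixHom d' M).eq
      _ = Φ (y * baseMatrixHom D n M) := by rw [hΦmul y (baseMatrixHom D n M), hΦM, hy]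
  exact ⟨d, hinj (by show Matrix.scalar (Fin n) (ψ d) = _; rw [hψ, hd, hy])⟩

end Groth.Agent.CSAlg
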